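import Mathlib
import Cfsg.Agent.Lib.Helper73.TC.Defs

/-!
# Project TC (S2929): package [GEN3]

A group generated by 3-cycles contains every even permutation supported on one of its orbits.
Elementary proof: the relation "`a = b` or some 3-cycle `(a b c)` lies in `T`" is an
equivalence relation whose classes are unions of `T`-orbits, and all 3-cycles on a class lie
in `T`.
-/

set_option autoImplicit false

namespace Cfsg.Agent.Lib.Helper59.TC

open Equiv

section Cyc

variable {α : Type} [DecidableEq α]

/-- the 3-cycle `a → b → c → a` -/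
def cyc (a b c : α) : Perm α := swap a b * swap b c

theorem cyc_apply_fst {a b c : α} (hab : a ≠ b) (hac : a ≠ c) : cyc a b c a = b := by
  simp [cyc, Equiv.swap_apply_of_ne_of_ne hab hac]

theorem cyc_apply_snd {a b c : α} (hac : a ≠ c) (hbc : b ≠ c) : cyc a b c b = c := by
  simp [cyc, Equiv.swap_apply_of_ne_of_ne hac.symm hbc.symm]

theorem cyc_apply_trd (a b c : α) : cyc a b c c = a := by
  simp [cyc]

theorem cyc_apply_other {a b c z : α} (ha : z ≠ a) (hb : z ≠ b) (hc : z ≠ c) :
    cyc a b c z = z := by
  simp [cyc, Equiv.swap_apply_of_ne_of_ne hb hc, Equiv.swap_apply_of_ne_of_ne ha hb]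

theorem cyc_inv (a b c : α) : (cyc a b c)⁻¹ = cyc c b a := by
  unfold cyc
  rw [mul_inv_rev, Equiv.swap_inv, Equiv.swap_inv, Equiv.swap_comm b c, Equiv.swap_comm a b]

theorem cyc_rot {a b c : α} (hac : a ≠ c) (hbc : b ≠ c) : cyc a b c = cyc c a b := by
  unfold cyc
  rw [Equiv.mul_swap_eq_swap_mul, Equiv.swap_apply_right,
    Equiv.swap_apply_of_ne_of_ne hac.symm hbc.symm, Equiv.swap_comm a c]

theorem cyc_conj (σ : Perm α) (a b c : α) :
    σ * cyc a b c * σ⁻¹ = cyc (σ a) (σ b) (σ c) := by
  unfold cyc
  rw [Equiv.swap_apply_apply, Equiv.swap_apply_apply]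
  group

/-- product formula -/
theorem cyc_mul {a b c u : α} (hub : u ≠ b) (huc : u ≠ c) :
    cyc a b u * cyc b c u = cyc a b c := by
  unfold cyc
  have h : swap b c * swap c u = swap b u * swap b c := by
    rw [Equiv.mul_swap_eq_swap_mul, Equiv.swap_apply_right,
      Equiv.swap_apply_of_ne_of_ne hub huc]
  rw [h, mul_assoc, ← mul_assoc (swap b u), Equiv.swap_mul_self, one_mul]

theorem cyc_sign [Fintype α] {a b c : α} (hab : a ≠ b) (hbc : b ≠ c) :
    Perm.sign (cyc a b c) = 1 := by
  unfold cyc
  rw [map_mul, Perm.sign_swap hab, Perm.sign_swap hbc]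
  decide

/-- a 3-cycle moving `a` is `(a, σ a, σ (σ a))` -/
theorem threeCycle_eq_cyc [Fintype α] {σ : Perm α} (h : σ.IsThreeCycle) {a : α}
    (ha : σ a ≠ a) : σ = cyc a (σ a) (σ (σ a)) := by
  have h3 : σ ^ 3 = 1 := by
    rw [← h.orderOf]
    exact pow_orderOf_eq_one σ
  have h3a : σ (σ (σ a)) = a := by
    have h4 := congrArg (fun f : Perm α => f a) h3
    simpa [pow_succ] using h4
  have hab : a ≠ σ a := Ne.symm ha
  have hbc : σ a ≠ σ (σ a) := fun e => hab (σ.injective e)
  have hac : a ≠ σ (σ a) := by
    intro e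
    apply ha
    have h5 : σ (σ (σ a)) = σ a := by rw [← e]
    rw [h3a] at h5
    exact h5.symm
  have hsupp : ({a, σ a, σ (σ a)} : Finset α) = σ.support := by
    apply Finset.eq_of_subset_of_card_le
    · intro z hz
      rw [Finset.mem_insert, Finset.mem_insert, Finset.mem_singleton] at hz
      rw [Perm.mem_support]
      rcases hz with rfl | rfl | rfl
      · exact ha
      · exact fun e => hab (σ.injective e).symm
      · exact fun e => hbc (σ.injective e).symm
    · rw [h.card_support, Finset.card_insert_of_notMem, Finset.card_pair hbc]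
      rw [Finset.mem_insert, Finset.mem_singleton]
      rintro (e | e)
      · exact hab e
      · exact hac e
  ext z
  by_cases hza : z = a
  · subst hza
    rw [cyc_apply_fst hab hac]
  by_cases hzb : z = σ a
  · subst hzb
    rw [cyc_apply_snd hac hbc]
  by_cases hzc : z = σ (σ a)
  · subst hzc
    rw [cyc_apply_trd, h3a]
  rw [cyc_apply_other hza hzb hzc]
  apply Perm.notMem_support.mp
  rw [← hsupp, Finset.mem_insert, Finset.mem_insert, Finset.mem_singleton]
  rintro (e | e | e)
  · exact hza e
  · exact hzb e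
  · exact hzc e

end Cyc

section Rel

variable {α : Type} [DecidableEq α] (T : Subgroup (Perm α))

/-- `a = b`, or some 3-cycle `(a b c)` lies in `T` -/
def rel (a b : α) : Prop := a = b ∨ (a ≠ b ∧ ∃ c, c ≠ a ∧ c ≠ b ∧ cyc a b c ∈ T)

theorem rel_symm {a b : α} (h : rel T a b) : rel T b a := by
  rcases h with h | ⟨hab, c, hca, hcb, hc⟩
  · exact Or.inl h.symm
  · refine Or.inr ⟨hab.symm, c, hcb, hca, ?_⟩
    rw [cyc_rot hcb.symm hca.symm, ← cyc_inv]
    exact T.inv_mem hc

/-- the main lemma: 3-cycles on related points lie in `T` -/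
theorem rel_cyc_mem {a b c : α} (hab : a ≠ b) (hbc : b ≠ c) (hac : a ≠ c)
    (h1 : rel T a b) (h2 : rel T b c) : cyc a b c ∈ T := by
  rcases h1 with h1 | ⟨-, u, hua, hub, hu⟩
  · exact absurd h1 hab
  rcases h2 with h2 | ⟨-, v, hvb, hvc, hv⟩
  · exact absurd h2 hbc
  by_cases huc : u = c
  · subst huc
    exact hu
  by_cases hva : v = a
  · subst hva
    rw [← cyc_rot hab.symm hac.symm]
    exact hv
  have key : cyc b c u ∈ T := by
    by_cases huv : u = v
    · subst huv
      exact hv
    · have h3 : cyc a b u * cyc b c v * (cyc a b u)⁻¹ ∈ T :=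
        T.mul_mem (T.mul_mem hu hv) (T.inv_mem hu)
      rw [cyc_conj, cyc_apply_snd hua.symm hub.symm,
        cyc_apply_other (Ne.symm hac) (Ne.symm hbc) (Ne.symm huc),
        cyc_apply_other hva hvb (Ne.symm huv)] at h3
      have h4 : cyc c u v ∈ T := by
        rw [cyc_rot hvc.symm huv, ← cyc_inv]
        exact T.inv_mem h3
      have h5 := T.mul_mem hv h4
      rw [cyc_mul hvc (Ne.symm huv)] at h5
      exact h5
  have h6 := T.mul_mem hu key
  rw [cyc_mul hub huc] at h6
  exact h6

theorem rel_trans {a b c : α} (h1 : rel T a b) (h2 : rel T b c) : rel T a c := by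
  by_cases hab : a = b
  · subst hab
    exact h2
  by_cases hbc : b = c
  · subst hbc
    exact h1
  by_cases hac : a = c
  · exact Or.inl hac
  have h := rel_cyc_mem T hab hbc hac h1 h2
  refine Or.inr ⟨hac, b, Ne.symm hab, hbc, ?_⟩
  rw [← cyc_rot (Ne.symm hac) (Ne.symm hab), ← cyc_inv]
  exact T.inv_mem h

theorem rel_gen [Fintype α] {σ : Perm α} (h : σ.IsThreeCycle) (hT : σ ∈ T) (y : α) :
    rel T (σ y) y := by
  by_cases hy : σ y = y
  · exact Or.inl hy
  · apply rel_symm
    have hab : y ≠ σ y := Ne.symm hy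
    have hbc : σ y ≠ σ (σ y) := fun e => hab (σ.injective e)
    have h3 : σ ^ 3 = 1 := by
      rw [← h.orderOf]
      exact pow_orderOf_eq_one σ
    have h3a : σ (σ (σ y)) = y := by
      have h4 := congrArg (fun f : Perm α => f y) h3
      simpa [pow_succ] using h4
    have hac : y ≠ σ (σ y) := by
      intro e
      apply hy
      have h5 : σ (σ (σ y)) = σ y := by rw [← e]
      rw [h3a] at h5
      exact h5.symm
    refine Or.inr ⟨hab, σ (σ y), Ne.symm hac, Ne.symm hbc, ?_⟩
    rw [← threeCycle_eq_cyc h hy]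
    exact hT

end Rel

section Main

variable {α : Type} [Fintype α] [DecidableEq α]

theorem rel_closure (S : Set (Perm α)) (hS : ∀ c ∈ S, c.IsThreeCycle) :
    ∀ t ∈ Subgroup.closure S, ∀ y, rel (Subgroup.closure S) (t y) y := by
  intro t ht
  induction ht using Subgroup.closure_induction with
  | mem c hc =>
    intro y
    exact rel_gen _ (hS c hc) (Subgroup.subset_closure hc) y
  | one =>
    intro y
    exact Or.inl rfl
  | mul a b _ _ iha ihb =>
    intro y
    exact rel_trans _ (iha (b y)) (ihb y)
  | inv a _ iha =>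
    intro y
    have h := iha (a⁻¹ y)
    have e : a (a⁻¹ y) = y := (Perm.inv_eq_iff_eq.mp rfl).symm
    rw [e] at h
    exact rel_symm _ h

/-- all 3-cycles on an orbit lie in the group -/
theorem cyc_mem_of_orbit (S : Set (Perm α)) (hS : ∀ c ∈ S, c.IsThreeCycle) (x : α)
    {a b c : α} (hab : a ≠ b) (hbc : b ≠ c) (hac : a ≠ c)
    (ha : ∃ t ∈ Subgroup.closure S, t x = a) (hb : ∃ t ∈ Subgroup.closure S, t x = b)
    (hc : ∃ t ∈ Subgroup.closure S, t x = c) : cyc a b c ∈ Subgroup.closure S := by
  obtain ⟨ta, hta, rfl⟩ := ha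
  obtain ⟨tb, htb, rfl⟩ := hb
  obtain ⟨tc, htc, rfl⟩ := hc
  have h1 := rel_closure S hS ta hta x
  have h2 := rel_closure S hS tb htb x
  have h3 := rel_closure S hS tc htc x
  exact rel_cyc_mem _ hab hbc hac (rel_trans _ h1 (rel_symm _ h2))
    (rel_trans _ h2 (rel_symm _ h3))

theorem gen_three_aux (S : Set (Perm α)) (hS : ∀ c ∈ S, c.IsThreeCycle) (x : α) :
    ∀ (n : ℕ) (g : Perm α), g.support.card = n → Perm.sign g = 1 →
      (∀ y, g y ≠ y → ∃ t ∈ Subgroup.closure S, t x = y) → g ∈ Subgroup.closure S := by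
  intro n
  induction n using Nat.strong_induction_on with
  | _ n ih =>
    intro g hn hsign hO
    by_cases h3 : n < 3
    · have h0 : n = 0 ∨ n = 1 ∨ n = 2 := by omega
      rcases h0 with h0 | h0 | h0
      · rw [h0] at hn
        rw [Perm.card_support_eq_zero.mp hn]
        exact Subgroup.one_mem _
      · rw [h0] at hn
        exact absurd hn (Perm.card_support_ne_one g)
      · rw [h0] at hn
        have h4 := (Perm.card_support_eq_two.mp hn).sign_eq
        rw [hsign] at h4
        exact absurd h4 (by decide)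
    · have hne : g.support.Nonempty := Finset.card_pos.mp (by omega)
      obtain ⟨a, ha⟩ := hne
      have hb : g a ∈ g.support := Perm.apply_mem_support.mpr ha
      have hab : a ≠ g a := (Perm.mem_support.mp ha).symm
      obtain ⟨c, hc⟩ : ((g.support.erase a).erase (g a)).Nonempty := by
        apply Finset.card_pos.mp
        rw [Finset.card_erase_of_mem (Finset.mem_erase.mpr ⟨hab.symm, hb⟩),
          Finset.card_erase_of_mem ha]
        omega
      rw [Finset.mem_erase, Finset.mem_erase] at hc
      obtain ⟨hcb, hca, hcs⟩ := hc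
      have hd : cyc a (g a) c ∈ Subgroup.closure S :=
        cyc_mem_of_orbit S hS x hab (Ne.symm hcb) (Ne.symm hca)
          (hO a (Perm.mem_support.mp ha)) (hO (g a) (Perm.mem_support.mp hb))
          (hO c (Perm.mem_support.mp hcs))
      have hsub : ∀ y, ((cyc a (g a) c)⁻¹ * g) y ≠ y → g y ≠ y ∧ y ≠ a := by
        intro y hy
        constructor
        · intro e
          apply hy
          rw [Perm.mul_apply, e, Perm.inv_eq_iff_eq]
          symm
          apply cyc_apply_other
          · rintro rfl
            exact Perm.mem_support.mp ha e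
          · rintro rfl
            exact Perm.mem_support.mp hb e
          · rintro rfl
            exact Perm.mem_support.mp hcs e
        · rintro rfl
          apply hy
          rw [Perm.mul_apply, Perm.inv_eq_iff_eq, cyc_apply_fst hab (Ne.symm hca)]
      have hlt : ((cyc a (g a) c)⁻¹ * g).support.card < n := by
        rw [← hn]
        apply Finset.card_lt_card
        rw [Finset.ssubset_iff_of_subset]
        · refine ⟨a, ha, ?_⟩
          intro h5
          exact (hsub a (Perm.mem_support.mp h5)).2 rfl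
        · intro y hy
          exact Perm.mem_support.mpr (hsub y (Perm.mem_support.mp hy)).1
      have key : (cyc a (g a) c)⁻¹ * g ∈ Subgroup.closure S := by
        apply ih _ hlt _ rfl
        · rw [map_mul, map_inv, cyc_sign hab (Ne.symm hcb), hsign]
          simp
        · intro y hy
          exact hO y (hsub y hy).1
      have h6 : g = cyc a (g a) c * ((cyc a (g a) c)⁻¹ * g) := by group
      rw [h6]
      exact Subgroup.mul_mem _ hd key

/-- **[GEN3]** -/
theorem lemGenThree : Cfsg.Agent.Lib.Helper73.TC.LemGenThree := by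
  intro α _ _ S hS x _ g hg hO
  exact gen_three_aux S hS x _ g rfl hg hO

end Main

end Cfsg.Agent.Lib.Helper59.TC
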