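import Mathlib
import Cfsg.Agent.Lib.Helper73.TC.Defs

/-!
# Project TC (S2929): package [ORB]

The orbits of the group generated by the 3-cycles of `H`.
-/

set_option autoImplicit false

namespace Cfsg.Agent.Lib.Helper59.TC

open Equiv Cfsg.Agent.Lib.Helper73.TC

/-- **[ORB]** from [GEN3] -/
theorem lemOrb_of (hG : LemGenThree) : LemOrb := by
  intro α _ _ H x O hx hO
  obtain ⟨c, hcH, hc3, hcx⟩ := hx
  have hcT : c ∈ threeGen H := Subgroup.subset_closure ⟨hcH, hc3⟩
  have hle : threeGen H ≤ H := by
    unfold threeGen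
    rw [Subgroup.closure_le]
    intro d hd
    exact hd.1
  refine ⟨?_, ?_, ?_, hle, ?_⟩
  · -- three points
    have h3 : c ^ 3 = 1 := by
      rw [← hc3.orderOf]
      exact pow_orderOf_eq_one c
    have h3a : c (c (c x)) = x := by
      have h4 := congrArg (fun f : Perm α => f x) h3
      simpa [pow_succ] using h4
    have hab : x ≠ c x := Ne.symm hcx
    have hbc : c x ≠ c (c x) := fun e => hab (c.injective e)
    have hac : x ≠ c (c x) := by
      intro e
      apply hcx
      have h5 : c (c (c x)) = c x := by rw [← e]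
      rw [h3a] at h5
      exact h5.symm
    have hsub : ({x, c x, c (c x)} : Finset α) ⊆ O := by
      intro z hz
      rw [Finset.mem_insert, Finset.mem_insert, Finset.mem_singleton] at hz
      rw [hO]
      rcases hz with rfl | rfl | rfl
      · exact ⟨1, Subgroup.one_mem _, rfl⟩
      · exact ⟨c, hcT, rfl⟩
      · exact ⟨c * c, Subgroup.mul_mem _ hcT hcT, rfl⟩
    have hcard : ({x, c x, c (c x)} : Finset α).card = 3 := by
      rw [Finset.card_insert_of_notMem, Finset.card_pair hbc]
      rw [Finset.mem_insert, Finset.mem_singleton]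
      rintro (e | e)
      · exact hab e
      · exact hac e
    rw [← hcard]
    exact Finset.card_le_card hsub
  · -- altOn O ≤ threeGen H
    intro g hg
    have hg1 : g ∈ alternatingGroup α := hg.1
    have hg2 : g ∈ fixingSubgroup (Perm α) ((↑O : Set α)ᶜ) := hg.2
    rw [Perm.mem_alternatingGroup] at hg1
    rw [mem_fixingSubgroup_iff] at hg2
    refine hG α {c : Perm α | c ∈ H ∧ c.IsThreeCycle} (fun d hd => hd.2) x
      ⟨c, ⟨hcH, hc3⟩, hcx⟩ g hg1 ?_
    intro y hy
    have hyO : y ∈ O := by
      by_contra hn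
      apply hy
      exact hg2 y (by simpa using hn)
    exact (hO y).mp hyO
  · -- invariance of O
    intro t ht y
    rw [hO, hO]
    constructor
    · rintro ⟨s, hs, hsx⟩
      refine ⟨t⁻¹ * s, Subgroup.mul_mem _ (Subgroup.inv_mem _ ht) hs, ?_⟩
      rw [Perm.mul_apply, hsx, Perm.inv_eq_iff_eq]
    · rintro ⟨s, hs, rfl⟩
      exact ⟨t * s, Subgroup.mul_mem _ ht hs, rfl⟩
  · -- normality
    intro h hh t ht
    unfold threeGen at ht ⊢
    induction ht using Subgroup.closure_induction with
    | mem d hd =>
      apply Subgroup.subset_closure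
      refine ⟨H.mul_mem (H.mul_mem hh hd.1) (H.inv_mem hh), ?_⟩
      have h1 : (h * d * h⁻¹).cycleType = d.cycleType := Perm.cycleType_conj
      unfold Perm.IsThreeCycle
      rw [h1]
      exact hd.2
    | one =>
      rw [mul_one, mul_inv_cancel]
      exact Subgroup.one_mem _
    | mul a b _ _ iha ihb =>
      have e : h * (a * b) * h⁻¹ = (h * a * h⁻¹) * (h * b * h⁻¹) := by group
      rw [e]
      exact Subgroup.mul_mem _ iha ihb
    | inv a _ iha =>
      have e : h * a⁻¹ * h⁻¹ = (h * a * h⁻¹)⁻¹ := by group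
      rw [e]
      exact Subgroup.inv_mem _ iha

end Cfsg.Agent.Lib.Helper59.TC
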